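import Mathlib.LinearAlgebra.ExteriorPower.Basis
import Mathlib.LinearAlgebra.TensorProduct.Quotient

/-!
# Exterior powers over a quotient ring

For a surjection `A → C` and a `C`-module `M`, the positive exterior powers of `M` over `A` and over `C` agree.
-/

set_option autoImplicit false
set_option linter.style.haveILetI false
universe u

namespace Groth.Agent.H16Derived.TorKoszulExcess

open exteriorPower

variable {A C : Type u} [CommRing A] [CommRing C] [Algebra A C]

theorem smul_eq_zero_of_ker {M : Type u} [AddCommGroup M] [Module A M] [Module C M] [IsScalarTower A C M]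
    {i : ℕ} (hi : 1 ≤ i) (a : A) (ha : algebraMap A C a = 0) (z : ⋀[A]^i M) : a • z = 0 := by
  have hz : z ∈ Submodule.span A (Set.range (ιMulti A i (M := M))) := by
    rw [ιMulti_span]; exact Submodule.mem_top
  induction hz using Submodule.span_induction with
  | mem x hx =>
    obtain ⟨v, rfl⟩ := hx
    have h := (ιMulti A i (M := M)).map_update_smul v ⟨0, hi⟩ a (v ⟨0, hi⟩)
    rw [Function.update_eq_self, ← algebraMap_smul C a (v ⟨0, hi⟩), ha, zero_smul,
      AlternatingMap.map_update_zero] at h
    exact h.symm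
  | zero => simp
  | add x y _ _ hx hy => rw [smul_add, hx, hy, add_zero]
  | smul b x _ hx => rw [smul_comm, hx, smul_zero]

theorem nonempty_exteriorPower_equiv (hs : Function.Surjective (algebraMap A C)) (M : Type u) [AddCommGroup M]
    [Module A M] [Module C M] [IsScalarTower A C M] {i : ℕ} (hi : 1 ≤ i) :
    Nonempty (⋀[A]^i M ≃ₗ[A] ⋀[C]^i M) := by
  letI : SMul C (⋀[A]^i M) := ⟨fun c z => Function.surjInv hs c • z⟩
  have hsm : ∀ (a : A) (z : ⋀[A]^i M), algebraMap A C a • z = a • z := fun a z => by
    show Function.surjInv hs (algebraMap A C a) • z = a • z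
    exact sub_eq_zero.1 ((sub_smul _ _ z).symm.trans
      (smul_eq_zero_of_ker (C := C) hi _ (by rw [map_sub, Function.surjInv_eq hs, sub_self]) z))
  letI : Module C (⋀[A]^i M) := Function.Surjective.moduleLeft (algebraMap A C) hs hsm
  haveI : IsScalarTower A C (⋀[A]^i M) := IsScalarTower.of_algebraMap_smul hsm
  -- from `A` to `C`
  let g : M [⋀^Fin i]→ₗ[A] ⋀[C]^i M :=
    ⟨(ιMulti C i (M := M)).toMultilinearMap.restrictScalars A, (ιMulti C i (M := M)).map_eq_zero_of_eq'⟩
  let φ : ⋀[A]^i M →ₗ[A] ⋀[C]^i M := alternatingMapLinearEquiv g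
  -- from `C` to `A`
  let g' : M [⋀^Fin i]→ₗ[C] ⋀[A]^i M :=
    { toFun := ιMulti A i (M := M)
      map_update_add' := fun v k x y => (ιMulti A i (M := M)).map_update_add v k x y
      map_update_smul' := fun v k c x => by
        obtain ⟨a, rfl⟩ := hs c
        rw [hsm, algebraMap_smul]
        exact (ιMulti A i (M := M)).map_update_smul v k a x
      map_eq_zero_of_eq' := fun v k l h hkl => (ιMulti A i (M := M)).map_eq_zero_of_eq v h hkl }
  let ψ : ⋀[C]^i M →ₗ[C] ⋀[A]^i M := alternatingMapLinearEquiv g'
  have hφ : ∀ v, φ (ιMulti A i v) = ιMulti C i v := fun v => alternatingMapLinearEquiv_apply_ιMulti g v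
  have hψ : ∀ v, ψ (ιMulti C i v) = ιMulti A i v := fun v => alternatingMapLinearEquiv_apply_ιMulti g' v
  refine ⟨LinearEquiv.ofLinearMap φ (ψ.restrictScalars A) ?_ ?_⟩
  · refine LinearMap.ext fun z => ?_
    have hz : z ∈ Submodule.span C (Set.range (ιMulti C i (M := M))) := by
      rw [ιMulti_span]; exact Submodule.mem_top
    induction hz using Submodule.span_induction with
    | mem x hx =>
      obtain ⟨v, rfl⟩ := hx
      show φ (ψ _) = _
      rw [hψ, hφ]; rfl
    | zero => simp
    | add x y _ _ hx hy => rw [map_add, map_add, hx, hy]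
    | smul c x _ hx =>
      obtain ⟨a, rfl⟩ := hs c
      show φ (ψ (algebraMap A C a • x)) = _
      rw [algebraMap_smul, LinearMap.map_smul_of_tower ψ, map_smul]
      exact congrArg (a • ·) hx
  · refine exteriorPower.linearMap_ext (AlternatingMap.ext fun v => ?_)
    exact (congrArg ψ (hφ v)).trans (hψ v)

/-- Positive exterior powers over `A` of a free module over a quotient ring. -/
theorem nonempty_exteriorPower_pi_equiv (hs : Function.Surjective (algebraMap A C)) (r : ℕ) {i : ℕ} (hi : 1 ≤ i) :
    Nonempty (⋀[A]^i (Fin r → C) ≃ₗ[A] (Fin (r.choose i) → C)) := by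
  obtain ⟨e⟩ := nonempty_exteriorPower_equiv hs (Fin r → C) hi
  let b := (Pi.basisFun C (Fin r)).exteriorPower i
  have hc : Nat.card (Set.powersetCard (Fin r) i) = r.choose i := by
    rw [Set.powersetCard.card, Nat.card_fin]
  exact ⟨e.trans ((b.equivFun.trans (LinearEquiv.funCongrLeft C C
    ((finCongr hc.symm).trans (Finite.equivFin _).symm))).restrictScalars A)⟩

end Groth.Agent.H16Derived.TorKoszulExcess
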