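import Groth.Agent.H16Derived.KoszulPow
import Groth.Agent.H3CAlg.TorKoszul
import Groth.Agent.H17.KoszulBC
import Groth.Agent.H17.KoszComp.Ring

/-!
# Koszul homology of a Koszul-regular sequence with zeros adjoined

If `m` is Koszul-regular in `B` then the Koszul complex on `0, …, 0` (`r` times) followed by `m`
has homology `(B ⧸ (m)) ^ (r choose i)` in degree `-i`.
-/

set_option autoImplicit false
set_option linter.style.haveILetI false
set_option backward.isDefEq.respectTransparency false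
universe u

open CategoryTheory CategoryTheory.Limits TensorProduct

namespace Groth.Agent.H16Derived.TorKoszulExcess

open Groth.Agent.H8Props.PseudoCoh

variable {B : Type u} [CommRing B]

/-- The homology at `i` of a complex is given by the module `M`, on elements. -/
def HomIs (K : CochainComplex (ModuleCat.{u} B) ℤ) (h i j : ℤ) (M : Type u) [AddCommGroup M] [Module B M] : Prop :=
  ∃ q : LinearMap.ker (K.d i j).hom →ₗ[B] M, Function.Surjective q ∧
    ∀ z, q z = 0 ↔ ∃ w, K.d h i w = z.1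

/-- The number of copies in degree `i`. -/
def cnt (r : ℕ) (i : ℤ) : ℕ := if i ≤ 0 then r.choose (-i).toNat else 0

theorem cnt_succ (r : ℕ) (i : ℤ) : cnt (r + 1) i = cnt r (i + 1) + cnt r i := by
  unfold cnt
  rcases lt_trichotomy i 0 with hi | rfl | hi
  · obtain ⟨n, rfl⟩ : ∃ n : ℕ, i = -((n + 1 : ℕ) : ℤ) := ⟨(-i).toNat - 1, by omega⟩
    rw [if_pos (by omega), if_pos (by omega), if_pos (by omega),
      show (-(-((n + 1 : ℕ) : ℤ))).toNat = n + 1 by omega,
      show (-(-((n + 1 : ℕ) : ℤ) + 1)).toNat = n by omega, Nat.choose_succ_succ]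
  · simp
  · rw [if_neg (by omega), if_neg (by omega), if_neg (by omega)]

theorem homIs_cons_zero (l : List B) (M₁ M₂ : Type u) [AddCommGroup M₁] [Module B M₁] [AddCommGroup M₂]
    [Module B M₂] (h i j k : ℤ) (hhi : h + 1 = i) (hij : i + 1 = j) (hjk : j + 1 = k)
    (H₁ : HomIs (Koszul.koszul B l) i j k M₁) (H₂ : HomIs (Koszul.koszul B l) h i j M₂) :
    HomIs (Koszul.koszul B (0 :: l)) h i j (M₁ × M₂) := by
  obtain ⟨q₁, hs₁, h₁⟩ := H₁
  obtain ⟨q₂, hs₂, h₂⟩ := H₂
  let eH : (Koszul.koszul B (0 :: l)).X h ≃ₗ[B] (Koszul.koszul B l).X i × (Koszul.koszul B l).X h :=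
    coneXEquiv ((0 : B) • 𝟙 (Koszul.koszul B l)) h i hhi
  let eI : (Koszul.koszul B (0 :: l)).X i ≃ₗ[B] (Koszul.koszul B l).X j × (Koszul.koszul B l).X i :=
    coneXEquiv ((0 : B) • 𝟙 (Koszul.koszul B l)) i j hij
  let eJ : (Koszul.koszul B (0 :: l)).X j ≃ₗ[B] (Koszul.koszul B l).X k × (Koszul.koszul B l).X j :=
    coneXEquiv ((0 : B) • 𝟙 (Koszul.koszul B l)) j k hjk
  have hdI : ∀ x, eJ ((Koszul.koszul B (0 :: l)).d i j x) =
      (-((Koszul.koszul B l).d j k (eI x).1), (Koszul.koszul B l).d i j (eI x).2) := fun x =>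
    (H29Slice.koszul_cons_d 0 l i j k hij hjk x).trans
      (Prod.ext rfl ((congrArg (· + _) (zero_smul B _)).trans (zero_add _)))
  have hdH : ∀ x, eI ((Koszul.koszul B (0 :: l)).d h i x) =
      (-((Koszul.koszul B l).d i j (eH x).1), (Koszul.koszul B l).d h i (eH x).2) := fun x =>
    (H29Slice.koszul_cons_d 0 l h i j hhi hij x).trans
      (Prod.ext rfl ((congrArg (· + _) (zero_smul B _)).trans (zero_add _)))
  have hz : ∀ z : LinearMap.ker ((Koszul.koszul B (0 :: l)).d i j).hom,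
      ((Koszul.koszul B l).d j k).hom (eI z.1).1 = 0 ∧ ((Koszul.koszul B l).d i j).hom (eI z.1).2 = 0 := fun z => by
    have h0 := hdI z.1
    rw [show ((Koszul.koszul B (0 :: l)).d i j) z.1 = 0 from z.2, map_zero] at h0
    exact ⟨neg_eq_zero.1 (congrArg Prod.fst h0).symm, (congrArg Prod.snd h0).symm⟩
  let p₁ : LinearMap.ker ((Koszul.koszul B (0 :: l)).d i j).hom →ₗ[B] LinearMap.ker ((Koszul.koszul B l).d j k).hom :=
    LinearMap.codRestrict _ ((LinearMap.fst B _ _) ∘ₗ eI.toLinearMap ∘ₗ Submodule.subtype _) fun z => (hz z).1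
  let p₂ : LinearMap.ker ((Koszul.koszul B (0 :: l)).d i j).hom →ₗ[B] LinearMap.ker ((Koszul.koszul B l).d i j).hom :=
    LinearMap.codRestrict _ ((LinearMap.snd B _ _) ∘ₗ eI.toLinearMap ∘ₗ Submodule.subtype _) fun z => (hz z).2
  refine ⟨(q₁ ∘ₗ p₁).prod (q₂ ∘ₗ p₂), fun y => ?_, fun z => ?_⟩
  · obtain ⟨z₁, hz₁⟩ := hs₁ y.1
    obtain ⟨z₂, hz₂⟩ := hs₂ y.2
    refine ⟨⟨eI.symm (z₁.1, z₂.1), ?_⟩, ?_⟩
    · show ((Koszul.koszul B (0 :: l)).d i j) (eI.symm (z₁.1, z₂.1)) = 0
      apply eJ.injective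
      rw [hdI, map_zero, eI.apply_symm_apply]
      exact Prod.ext (neg_eq_zero.2 z₁.2) z₂.2
    · refine Prod.ext ?_ ?_
      · refine (congrArg q₁ (Subtype.ext ?_)).trans hz₁
        exact congrArg Prod.fst (eI.apply_symm_apply (z₁.1, z₂.1))
      · refine (congrArg q₂ (Subtype.ext ?_)).trans hz₂
        exact congrArg Prod.snd (eI.apply_symm_apply (z₁.1, z₂.1))
  · rw [LinearMap.prod_apply, Function.prod_apply, Prod.mk_eq_zero, LinearMap.comp_apply, LinearMap.comp_apply,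
      h₁, h₂]
    constructor
    · rintro ⟨⟨w₁, hw₁⟩, ⟨w₂, hw₂⟩⟩
      refine ⟨eH.symm (-w₁, w₂), eI.injective ?_⟩
      rw [hdH, eH.apply_symm_apply]
      refine Prod.ext ?_ hw₂
      show -((Koszul.koszul B l).d i j (-w₁)) = (eI z.1).1
      rw [map_neg, neg_neg]
      exact hw₁
    · rintro ⟨w, hw⟩
      have hw' := hdH w
      rw [hw] at hw'
      refine ⟨⟨-(eH w).1, ?_⟩, ⟨(eH w).2, (congrArg Prod.snd hw').symm⟩⟩
      rw [map_neg]
      exact (congrArg Prod.fst hw').symm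

theorem HomIs.congr {K : CochainComplex (ModuleCat.{u} B) ℤ} {h i j : ℤ} {M M' : Type u} [AddCommGroup M]
    [Module B M] [AddCommGroup M'] [Module B M'] (H : HomIs K h i j M) (e : M ≃ₗ[B] M') : HomIs K h i j M' := by
  obtain ⟨q, hs, hq⟩ := H
  exact ⟨e.toLinearMap ∘ₗ q, e.surjective.comp hs, fun z => e.map_eq_zero_iff.trans (hq z)⟩

variable (m : List B) (hm : LCI.IsKoszulRegularSeq B m)
include hm

theorem homIs_base (h i j : ℤ) (hhi : h + 1 = i) (hij : i + 1 = j) :
    HomIs (Koszul.koszul B m) h i j (Fin (cnt 0 i) → B ⧸ Ideal.ofList m) := by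
  by_cases hi : i = 0
  · subst hi
    obtain rfl : h = -1 := by omega
    obtain rfl : j = 1 := by omega
    obtain ⟨ε, hε⟩ := koszul_zero m
    haveI := ModuleCat.subsingleton_of_isZero (koszul_isZero m 1 (Or.inr one_pos))
    haveI : Unique (Fin (cnt 0 0)) := inferInstanceAs (Unique (Fin 1))
    let e : (B ⧸ Ideal.ofList m) ≃ₗ[B] (Fin (cnt 0 0) → B ⧸ Ideal.ofList m) :=
      (LinearEquiv.funUnique (Fin (cnt 0 0)) B (B ⧸ Ideal.ofList m)).symm
    refine HomIs.congr ?_ e
    refine ⟨(Submodule.mkQ (Ideal.ofList m)) ∘ₗ ε.toLinearMap ∘ₗ Submodule.subtype _, fun y => ?_, fun z => ?_⟩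
    · obtain ⟨a, rfl⟩ := Submodule.mkQ_surjective (Ideal.ofList m) y
      refine ⟨⟨ε.symm a, Subsingleton.elim (α := (Koszul.koszul B m).X 1) _ _⟩, ?_⟩
      exact congrArg (Submodule.mkQ (Ideal.ofList m)) (ε.apply_symm_apply a)
    · refine (Submodule.Quotient.mk_eq_zero _).trans ?_
      rw [← hε, Submodule.mem_map_equiv]
      show ε.symm (ε z.1) ∈ _ ↔ _
      rw [ε.symm_apply_apply, LinearMap.mem_range]
  · haveI : IsEmpty (Fin (cnt 0 i)) := by
      have : cnt 0 i = 0 := by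
        unfold cnt
        split_ifs with h'
        · exact Nat.choose_eq_zero_of_lt (by omega)
        · rfl
      rw [this]; infer_instance
    refine ⟨0, fun y => ⟨0, Subsingleton.elim _ _⟩, fun z => iff_of_true rfl ?_⟩
    exact H29Slice.exists_preimage_of_isZero_homology _ h i j hhi hij (hm i hi) z.1 z.2

theorem homIs_replicate : ∀ (r : ℕ) (h i j : ℤ), h + 1 = i → i + 1 = j →
    HomIs (Koszul.koszul B (List.replicate r 0 ++ m)) h i j (Fin (cnt r i) → B ⧸ Ideal.ofList m)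
  | 0, h, i, j, hhi, hij => homIs_base m hm h i j hhi hij
  | r + 1, h, i, j, hhi, hij => by
    subst hij
    have H := homIs_cons_zero (List.replicate r 0 ++ m) _ _ h i (i + 1) (i + 1 + 1) hhi rfl rfl
      (homIs_replicate r i (i + 1) (i + 1 + 1) rfl rfl) (homIs_replicate r h i (i + 1) hhi rfl)
    exact H.congr ((LinearEquiv.sumArrowLequivProdArrow _ _ B _).symm.trans
      (LinearEquiv.funCongrLeft B _ ((finCongr (cnt_succ r i)).trans finSumFinEquiv.symm)))

end Groth.Agent.H16Derived.TorKoszulExcess
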