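import Groth.Agent.H16Derived.TorKoszulExcess.Homology
import Groth.Agent.H16Derived.TorKoszulExcess.Ext

/-!
# Tor of quotients by Koszul-regular sequences with a common part
-/

set_option autoImplicit false
set_option linter.style.haveILetI false
set_option backward.isDefEq.respectTransparency false
universe u

open CategoryTheory CategoryTheory.Limits TensorProduct MonoidalCategory

namespace Groth.Agent.H16Derived.TorKoszulExcess

variable {A : Type u} [CommRing A]

/-- The target of a degreewise surjection with exact kernel from an exact complex is exact. -/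
theorem isKoszulRegularSeq_of_append {B : Type u} [CommRing B] (q : A →+* B) (hq : Function.Surjective q)
    {l gs : List A} (hl : LCI.IsKoszulRegularSeq A l) (hker : RingHom.ker q = Ideal.ofList l)
    (hg : LCI.IsKoszulRegularSeq A (gs ++ l)) : LCI.IsKoszulRegularSeq B (gs.map q) := by
  have hc : ∀ gs : List A, Nonempty (H17.KoszComp.Cmp q (Koszul.koszul A (gs ++ l)) (Koszul.koszul B (gs.map q))) := by
    intro gs
    induction gs with
    | nil => exact H17.KoszComp.exists_base q hq hl hker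
    | cons g gs ih => exact H17.KoszComp.exists_cons q g ih.some
  obtain ⟨c⟩ := hc gs
  rw [← KoszulPow.reg_iff]
  intro h i j hhi hij hi y hy
  obtain ⟨x, rfl⟩ := c.surj i y
  have hdx : c.π j ((Koszul.koszul A (gs ++ l)).d i j x) = 0 := by rw [c.comm i j x hij, hy]
  obtain ⟨z, hz0, hz⟩ := c.ker i j (j + 1) _ hij rfl hdx (by
    rw [← ConcreteCategory.comp_apply, HomologicalComplex.d_comp_d]; rfl)
  obtain ⟨w, hw⟩ := H29Slice.exists_preimage_of_isZero_homology _ h i j hhi hij (hg i hi) (x - z)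
    (by rw [map_sub, hz, sub_self])
  exact ⟨c.π h w, by rw [← c.comm h i w hhi, hw, map_sub, hz0, sub_zero]⟩

variable (f g h : List A) (hfg : LCI.IsKoszulRegularSeq A (f ++ g)) (hfh : LCI.IsKoszulRegularSeq A (f ++ h))
    (hfgh : LCI.IsKoszulRegularSeq A (f ++ g ++ h))

include hfg hfh hfgh

/-- `Tor` is free over the quotient by both ideals, of rank a binomial coefficient. -/
theorem nonempty_tor_equiv (n : ℕ) :
    Nonempty (((Tor (ModuleCat.{u} A) (n + 1)).obj (ModuleCat.of A (A ⧸ Ideal.ofList (f ++ g)))).obj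
        (ModuleCat.of A (A ⧸ Ideal.ofList (f ++ h))) ≃ₗ[A]
      (Fin (f.length.choose (n + 1)) →
        (A ⧸ Ideal.ofList (f ++ h)) ⧸ Ideal.ofList (g.map (algebraMap A (A ⧸ Ideal.ofList (f ++ h)))))) := by
  let B := A ⧸ Ideal.ofList (f ++ h)
  let q : A →+* B := algebraMap A B
  have hker : RingHom.ker q = Ideal.ofList (f ++ h) := Ideal.mk_ker
  have hgB : LCI.IsKoszulRegularSeq B (g.map q) := by
    refine isKoszulRegularSeq_of_append q Ideal.Quotient.mk_surjective hfh hker ?_
    rw [← KoszulPow.reg_iff] at hfgh ⊢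
    exact KoszulPow.kEq_reg (KoszulPow.kEq_of_perm (by
      rw [← List.append_assoc]
      exact List.perm_append_comm.append_right h)) hfgh
  have hl : (f ++ g).map q = List.replicate f.length 0 ++ g.map q := by
    rw [List.map_append]
    congr 1
    refine List.eq_replicate_iff.2 ⟨List.length_map .., fun b hb => ?_⟩
    obtain ⟨a, ha, rfl⟩ := List.mem_map.1 hb
    exact Ideal.Quotient.eq_zero_iff_mem.2 (Ideal.subset_span (List.mem_append_left h ha))
  obtain ⟨P, hP⟩ := H3CAlg.TorKoszul.nonempty_kosRes (f ++ g) hfg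
  obtain ⟨e₀⟩ := H26Tor.balance P (n + 1) (ModuleCat.of A B)
  let T := ((tensorRight (ModuleCat.of A B)).mapHomologicalComplex _).obj (H3CAlg.TorKoszul.kosChain (f ++ g))
  have e₁ : (H26Tor.leftRes P).obj (ModuleCat.of A B) ≅ T := eqToIso (by simp only [T, ← hP]; rfl)
  obtain ⟨b, hb⟩ := H17.KoszulBC.exists_equiv B (f ++ g)
  let K := Koszul.koszul A (f ++ g)
  let L := Koszul.koszul B ((f ++ g).map q)
  let a : ℤ := -((n + 2 : ℕ) : ℤ)
  let i : ℤ := -((n + 1 : ℕ) : ℤ)
  let j : ℤ := -(n : ℤ)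
  have hai : a + 1 = i := by omega
  have hij : i + 1 = j := by omega
  obtain ⟨φ, hφs, hφ⟩ : HomIs L a i j (Fin (f.length.choose (n + 1)) → B ⧸ Ideal.ofList (g.map q)) := by
    have H := homIs_replicate (g.map q) hgB f.length a i j hai hij
    rw [← hl] at H
    have hcnt : cnt f.length i = f.length.choose (n + 1) := by
      rw [cnt, if_pos (by omega), show (-i).toNat = n + 1 by omega]
    exact H.congr (LinearEquiv.funCongrLeft B (B ⧸ Ideal.ofList (g.map q)) (finCongr hcnt.symm))
  let E : ∀ k : ℤ, (K.X k) ⊗[A] B ≃+ L.X k := fun k =>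
    (TensorProduct.comm A _ _).toAddEquiv.trans (b k).toAddEquiv
  have hEsm : ∀ (k : ℤ) (r : A) (x : (K.X k) ⊗[A] B), E k (r • x) = q r • E k x := fun k r x => by
    show b k (TensorProduct.comm A _ _ (r • x)) = q r • b k (TensorProduct.comm A _ _ x)
    rw [map_smul, ← map_smul (b k), show q r • TensorProduct.comm A _ _ x = r • _ from algebraMap_smul B r _]
  have hE : ∀ k l : ℤ, k + 1 = l → ∀ x : (K.X k) ⊗[A] B, E l ((K.d k l).hom.rTensor B x) = L.d k l (E k x) := by
    intro k l hkl x
    refine Eq.trans ?_ (hb k l hkl (TensorProduct.comm A _ _ x)).symm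
    show b l (TensorProduct.comm A _ _ ((K.d k l).hom.rTensor B x)) = _
    refine congrArg (b l) ?_
    induction x with
    | zero => simp
    | tmul u v => simp [K]
    | add u v hu hv => simp only [map_add, hu, hv]
  let S := T.sc' (n + 2) (n + 1) n
  have hmem : ∀ z : LinearMap.ker S.g.hom, E i z.1 ∈ LinearMap.ker (L.d i j).hom := fun z => by
    show L.d i j (E i z.1) = 0
    rw [← hE i j hij z.1, show (K.d i j).hom.rTensor B z.1 = 0 from z.2, map_zero]
  let Φ : LinearMap.ker S.g.hom →ₗ[A] (Fin (f.length.choose (n + 1)) → B ⧸ Ideal.ofList (g.map q)) :=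
    { toFun := fun z => φ ⟨E i z.1, hmem z⟩
      map_add' := fun z z' => by
        rw [← map_add]
        exact congrArg φ (Subtype.ext (map_add (E i) z.1 z'.1))
      map_smul' := fun r z => by
        rw [RingHom.id_apply, ← algebraMap_smul B r (φ _), ← map_smul]
        exact congrArg φ (Subtype.ext (hEsm i r z.1)) }
  have hΦ : Function.Surjective Φ := fun y => by
    obtain ⟨⟨z, hz⟩, hzy⟩ := hφs y
    refine ⟨⟨(E i).symm z, ?_⟩, ?_⟩
    · show (K.d i j).hom.rTensor B ((E i).symm z) = 0
      apply (E j).injective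
      rw [hE i j hij, (E i).apply_symm_apply, map_zero]
      exact hz
    · exact (congrArg φ (Subtype.ext ((E i).apply_symm_apply z))).trans hzy
  have hΦ0 : LinearMap.range S.moduleCatToCycles = LinearMap.ker Φ := by
    ext z
    refine Iff.trans ?_ (hφ ⟨E i z.1, hmem z⟩).symm
    constructor
    · rintro ⟨w, rfl⟩
      exact ⟨E a w, (hE a i hai w).symm⟩
    · rintro ⟨w, hw⟩
      refine ⟨(E a).symm w, Subtype.ext ((E i).injective ?_)⟩
      rw [show (S.moduleCatToCycles ((E a).symm w)).1 = (K.d a i).hom.rTensor B ((E a).symm w) from rfl,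
        hE a i hai, (E a).apply_symm_apply, hw]
  let e₂ : (T.homology (n + 1) : ModuleCat.{u} A) ≅ ModuleCat.of A (Fin (f.length.choose (n + 1)) → B ⧸ Ideal.ofList (g.map q)) :=
    T.homologyIsoSc' (n + 2) (n + 1) n (by simp) (by simp) ≪≫ S.moduleCatHomologyIso ≪≫
      ((Submodule.quotEquivOfEq _ _ hΦ0).trans (Φ.quotKerEquivOfSurjective hΦ)).toModuleIso
  exact ⟨(e₀ ≪≫ (HomologicalComplex.homologyFunctor _ _ (n + 1)).mapIso e₁ ≪≫ e₂).toLinearEquiv⟩

/-- `Tor_i` is the `i`-th exterior power of `Tor_1` for positive `i`. -/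
theorem main (i : ℕ) (hi : 1 ≤ i) :
    Nonempty (((Tor (ModuleCat.{u} A) i).obj (ModuleCat.of A (A ⧸ Ideal.ofList (f ++ g)))).obj
        (ModuleCat.of A (A ⧸ Ideal.ofList (f ++ h))) ≅
      ModuleCat.of A (⋀[A]^i (((Tor (ModuleCat.{u} A) 1).obj (ModuleCat.of A (A ⧸ Ideal.ofList (f ++ g)))).obj
        (ModuleCat.of A (A ⧸ Ideal.ofList (f ++ h)))))) := by
  obtain ⟨n, rfl⟩ : ∃ n, i = n + 1 := ⟨i - 1, by omega⟩
  obtain ⟨ei⟩ := nonempty_tor_equiv f g h hfg hfh hfgh n
  obtain ⟨e1⟩ := nonempty_tor_equiv f g h hfg hfh hfgh 0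
  let C := (A ⧸ Ideal.ofList (f ++ h)) ⧸ Ideal.ofList (g.map (algebraMap A (A ⧸ Ideal.ofList (f ++ h))))
  have hs : Function.Surjective (algebraMap A C) := by
    rw [IsScalarTower.algebraMap_eq A (A ⧸ Ideal.ofList (f ++ h)) C]
    exact Ideal.Quotient.mk_surjective.comp Ideal.Quotient.mk_surjective
  obtain ⟨ep⟩ := nonempty_exteriorPower_pi_equiv (C := C) hs f.length hi
  have e1' := e1.trans (LinearEquiv.funCongrLeft A C (finCongr (Nat.choose_one_right f.length).symm))
  let em : _ ≃ₗ[A] ⋀[A]^(n + 1) (Fin f.length → C) := LinearEquiv.ofLinearMap (exteriorPower.map (n + 1) e1'.toLinearMap)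
    (exteriorPower.map (n + 1) e1'.symm.toLinearMap)
    (by rw [← exteriorPower.map_comp, LinearEquiv.comp_coe, LinearEquiv.symm_trans_self,
      LinearEquiv.refl_toLinearMap, exteriorPower.map_id])
    (by rw [← exteriorPower.map_comp, LinearEquiv.comp_coe, LinearEquiv.self_trans_symm,
      LinearEquiv.refl_toLinearMap, exteriorPower.map_id])
  exact ⟨(ei.trans (em.trans ep).symm).toModuleIso⟩

end Groth.Agent.H16Derived.TorKoszulExcess
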